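import Mathlib
import Cfsg.Agent.Lib.Helper56.TC
import Cfsg.Agent.Lib.Helper28.G2Mult.L0.C0
import Cfsg.Agent.Lib.Helper28.G2Mult.L0.C1
import Cfsg.Agent.Lib.Helper28.G2Mult.L0.C2
import Cfsg.Agent.Lib.Helper28.G2Mult.L0.C3
import Cfsg.Agent.Lib.Helper28.G2Mult.L0.C4
import Cfsg.Agent.Lib.Helper28.G2Mult.L0.C5
import Cfsg.Agent.Lib.Helper28.G2Mult.L0.C6
import Cfsg.Agent.Lib.Helper28.G2Mult.L0.C7
import Cfsg.Agent.Lib.Helper28.G2Mult.L0.C8
import Cfsg.Agent.Lib.Helper28.G2Mult.L0.C9
import Cfsg.Agent.Lib.Helper28.G2Mult.L0.C10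
import Cfsg.Agent.Lib.Helper28.G2Mult.L0.C11
import Cfsg.Agent.Lib.Helper28.G2Mult.L0.C12
import Cfsg.Agent.Lib.Helper28.G2Mult.L0.C13
import Cfsg.Agent.Lib.Helper28.G2Mult.L0.C14
import Cfsg.Agent.Lib.Helper28.G2Mult.L0.C15
import Cfsg.Agent.Lib.Helper28.G2Mult.L0.C16
import Cfsg.Agent.Lib.Helper28.G2Mult.L0.C17
import Cfsg.Agent.Lib.Helper28.G2Mult.L0.C18
import Cfsg.Agent.Lib.Helper28.G2Mult.L0.C19
import Cfsg.Agent.Lib.Helper28.G2Mult.L0.C20
set_option autoImplicit false
set_option maxRecDepth 1000000

namespace Cfsg.Agent.Lib.Helper28.G2Mult.L0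

open Cfsg.Agent.Lib.Helper56.TC Cfsg.Agent.Lib.Helper56.TC.Tabs
open Cfsg.Agent.Lib.Helper28.CovL

theorem uN_525 : Upto T.chkName 525 := upto_add (upto_zero T.chkName) rfl cN_0
theorem uN_1212 : Upto T.chkName 1212 := upto_add uN_525 rfl cN_525
theorem uN_1815 : Upto T.chkName 1815 := upto_add uN_1212 rfl cN_1212
theorem uN_2376 : Upto T.chkName 2376 := upto_add uN_1815 rfl cN_1815
theorem uN_2917 : Upto T.chkName 2917 := upto_add uN_2376 rfl cN_2376
theorem uN_3473 : Upto T.chkName 3473 := upto_add uN_2917 rfl cN_2917
theorem uN_4082 : Upto T.chkName 4082 := upto_add uN_3473 rfl cN_3473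
theorem uN_4702 : Upto T.chkName 4702 := upto_add uN_4082 rfl cN_4082
theorem uN_5305 : Upto T.chkName 5305 := upto_add uN_4702 rfl cN_4702
theorem uN_5912 : Upto T.chkName 5912 := upto_add uN_5305 rfl cN_5305
theorem uN_6518 : Upto T.chkName 6518 := upto_add uN_5912 rfl cN_5912
theorem uN_7164 : Upto T.chkName 7164 := upto_add uN_6518 rfl cN_6518
theorem uN_7813 : Upto T.chkName 7813 := upto_add uN_7164 rfl cN_7164
theorem uN_8495 : Upto T.chkName 8495 := upto_add uN_7813 rfl cN_7813
theorem uN_9165 : Upto T.chkName 9165 := upto_add uN_8495 rfl cN_8495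
theorem uN_9839 : Upto T.chkName 9839 := upto_add uN_9165 rfl cN_9165
theorem uN_10503 : Upto T.chkName 10503 := upto_add uN_9839 rfl cN_9839
theorem uN_11184 : Upto T.chkName 11184 := upto_add uN_10503 rfl cN_10503
theorem uN_11842 : Upto T.chkName 11842 := upto_add uN_11184 rfl cN_11184
theorem uN_12508 : Upto T.chkName 12508 := upto_add uN_11842 rfl cN_11842
theorem uN_13182 : Upto T.chkName 13182 := upto_add uN_12508 rfl cN_12508
theorem uN_13865 : Upto T.chkName 13865 := upto_add uN_13182 rfl cN_13182
theorem uN_14554 : Upto T.chkName 14554 := upto_add uN_13865 rfl cN_13865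
theorem uN_15236 : Upto T.chkName 15236 := upto_add uN_14554 rfl cN_14554
theorem uN_15915 : Upto T.chkName 15915 := upto_add uN_15236 rfl cN_15236
theorem uN_16611 : Upto T.chkName 16611 := upto_add uN_15915 rfl cN_15915
theorem uN_17298 : Upto T.chkName 17298 := upto_add uN_16611 rfl cN_16611
theorem uN_17978 : Upto T.chkName 17978 := upto_add uN_17298 rfl cN_17298
theorem uN_18651 : Upto T.chkName 18651 := upto_add uN_17978 rfl cN_17978
theorem uN_19325 : Upto T.chkName 19325 := upto_add uN_18651 rfl cN_18651
theorem uN_19998 : Upto T.chkName 19998 := upto_add uN_19325 rfl cN_19325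
theorem uN_20685 : Upto T.chkName 20685 := upto_add uN_19998 rfl cN_19998
theorem uN_21375 : Upto T.chkName 21375 := upto_add uN_20685 rfl cN_20685
theorem uN_22050 : Upto T.chkName 22050 := upto_add uN_21375 rfl cN_21375
theorem uN_22696 : Upto T.chkName 22696 := upto_add uN_22050 rfl cN_22050
theorem uN_23352 : Upto T.chkName 23352 := upto_add uN_22696 rfl cN_22696
theorem uN_23974 : Upto T.chkName 23974 := upto_add uN_23352 rfl cN_23352
theorem uN_24616 : Upto T.chkName 24616 := upto_add uN_23974 rfl cN_23974
theorem uN_25267 : Upto T.chkName 25267 := upto_add uN_24616 rfl cN_24616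
theorem uN_25950 : Upto T.chkName 25950 := upto_add uN_25267 rfl cN_25267
theorem uN_26597 : Upto T.chkName 26597 := upto_add uN_25950 rfl cN_25950
theorem uN_27280 : Upto T.chkName 27280 := upto_add uN_26597 rfl cN_26597
theorem uN_27974 : Upto T.chkName 27974 := upto_add uN_27280 rfl cN_27280
theorem uN_28671 : Upto T.chkName 28671 := upto_add uN_27974 rfl cN_27974
theorem uN_29347 : Upto T.chkName 29347 := upto_add uN_28671 rfl cN_28671
theorem uN_30042 : Upto T.chkName 30042 := upto_add uN_29347 rfl cN_29347
theorem uN_30719 : Upto T.chkName 30719 := upto_add uN_30042 rfl cN_30042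
theorem uN_31406 : Upto T.chkName 31406 := upto_add uN_30719 rfl cN_30719
theorem uN_32095 : Upto T.chkName 32095 := upto_add uN_31406 rfl cN_31406
theorem uN_32787 : Upto T.chkName 32787 := upto_add uN_32095 rfl cN_32095
theorem uN_33486 : Upto T.chkName 33486 := upto_add uN_32787 rfl cN_32787
theorem uN_34185 : Upto T.chkName 34185 := upto_add uN_33486 rfl cN_33486
theorem uN_34882 : Upto T.chkName 34882 := upto_add uN_34185 rfl cN_34185
theorem uN_35574 : Upto T.chkName 35574 := upto_add uN_34882 rfl cN_34882
theorem uN_36267 : Upto T.chkName 36267 := upto_add uN_35574 rfl cN_35574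
theorem uN_36940 : Upto T.chkName 36940 := upto_add uN_36267 rfl cN_36267
theorem uN_37629 : Upto T.chkName 37629 := upto_add uN_36940 rfl cN_36940
theorem uN_38309 : Upto T.chkName 38309 := upto_add uN_37629 rfl cN_37629
theorem uN_38984 : Upto T.chkName 38984 := upto_add uN_38309 rfl cN_38309
theorem uN_39666 : Upto T.chkName 39666 := upto_add uN_38984 rfl cN_38984
theorem uN_40355 : Upto T.chkName 40355 := upto_add uN_39666 rfl cN_39666
theorem uN_41047 : Upto T.chkName 41047 := upto_add uN_40355 rfl cN_40355
theorem uN_41727 : Upto T.chkName 41727 := upto_add uN_41047 rfl cN_41047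
theorem uN_42421 : Upto T.chkName 42421 := upto_add uN_41727 rfl cN_41727
theorem uN_43104 : Upto T.chkName 43104 := upto_add uN_42421 rfl cN_42421
theorem uN_43795 : Upto T.chkName 43795 := upto_add uN_43104 rfl cN_43104
theorem uN_44485 : Upto T.chkName 44485 := upto_add uN_43795 rfl cN_43795
theorem uN_45165 : Upto T.chkName 45165 := upto_add uN_44485 rfl cN_44485
theorem uN_45848 : Upto T.chkName 45848 := upto_add uN_45165 rfl cN_45165
theorem uN_46549 : Upto T.chkName 46549 := upto_add uN_45848 rfl cN_45848
theorem uN_47242 : Upto T.chkName 47242 := upto_add uN_46549 rfl cN_46549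
theorem uN_47929 : Upto T.chkName 47929 := upto_add uN_47242 rfl cN_47242
theorem uN_48634 : Upto T.chkName 48634 := upto_add uN_47929 rfl cN_47929
theorem uN_49315 : Upto T.chkName 49315 := upto_add uN_48634 rfl cN_48634
theorem uN_49971 : Upto T.chkName 49971 := upto_add uN_49315 rfl cN_49315
theorem uN_50618 : Upto T.chkName 50618 := upto_add uN_49971 rfl cN_49971
theorem uN_51290 : Upto T.chkName 51290 := upto_add uN_50618 rfl cN_50618
theorem uN_51952 : Upto T.chkName 51952 := upto_add uN_51290 rfl cN_51290
theorem uN_52630 : Upto T.chkName 52630 := upto_add uN_51952 rfl cN_51952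
theorem uN_53312 : Upto T.chkName 53312 := upto_add uN_52630 rfl cN_52630
theorem uN_53967 : Upto T.chkName 53967 := upto_add uN_53312 rfl cN_53312
theorem uN_54651 : Upto T.chkName 54651 := upto_add uN_53967 rfl cN_53967
theorem uN_55320 : Upto T.chkName 55320 := upto_add uN_54651 rfl cN_54651
theorem uN_56012 : Upto T.chkName 56012 := upto_add uN_55320 rfl cN_55320
theorem uN_56695 : Upto T.chkName 56695 := upto_add uN_56012 rfl cN_56012
theorem uN_57379 : Upto T.chkName 57379 := upto_add uN_56695 rfl cN_56695
theorem uN_58070 : Upto T.chkName 58070 := upto_add uN_57379 rfl cN_57379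
theorem uN_58766 : Upto T.chkName 58766 := upto_add uN_58070 rfl cN_58070
theorem uN_59452 : Upto T.chkName 59452 := upto_add uN_58766 rfl cN_58766
theorem uN_60139 : Upto T.chkName 60139 := upto_add uN_59452 rfl cN_59452
theorem uN_60828 : Upto T.chkName 60828 := upto_add uN_60139 rfl cN_60139
theorem uN_61493 : Upto T.chkName 61493 := upto_add uN_60828 rfl cN_60828
theorem uN_62158 : Upto T.chkName 62158 := upto_add uN_61493 rfl cN_61493
theorem uN_62819 : Upto T.chkName 62819 := upto_add uN_62158 rfl cN_62158
theorem uN_63498 : Upto T.chkName 63498 := upto_add uN_62819 rfl cN_62819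
theorem uN_64181 : Upto T.chkName 64181 := upto_add uN_63498 rfl cN_63498
theorem uN_64857 : Upto T.chkName 64857 := upto_add uN_64181 rfl cN_64181
theorem uN_65542 : Upto T.chkName 65542 := upto_add uN_64857 rfl cN_64857
theorem uN_66228 : Upto T.chkName 66228 := upto_add uN_65542 rfl cN_65542
theorem uN_66927 : Upto T.chkName 66927 := upto_add uN_66228 rfl cN_66228
theorem uN_67612 : Upto T.chkName 67612 := upto_add uN_66927 rfl cN_66927
theorem uN_68300 : Upto T.chkName 68300 := upto_add uN_67612 rfl cN_67612
theorem uN_68975 : Upto T.chkName 68975 := upto_add uN_68300 rfl cN_68300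
theorem uN_69664 : Upto T.chkName 69664 := upto_add uN_68975 rfl cN_68975
theorem uN_70329 : Upto T.chkName 70329 := upto_add uN_69664 rfl cN_69664
theorem uN_71023 : Upto T.chkName 71023 := upto_add uN_70329 rfl cN_70329
theorem uN_71697 : Upto T.chkName 71697 := upto_add uN_71023 rfl cN_71023
theorem uN_72390 : Upto T.chkName 72390 := upto_add uN_71697 rfl cN_71697
theorem uN_73056 : Upto T.chkName 73056 := upto_add uN_72390 rfl cN_72390
theorem uN_73737 : Upto T.chkName 73737 := upto_add uN_73056 rfl cN_73056
theorem uN_74429 : Upto T.chkName 74429 := upto_add uN_73737 rfl cN_73737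
theorem uN_75119 : Upto T.chkName 75119 := upto_add uN_74429 rfl cN_74429
theorem uN_75802 : Upto T.chkName 75802 := upto_add uN_75119 rfl cN_75119
theorem uN_76479 : Upto T.chkName 76479 := upto_add uN_75802 rfl cN_75802
theorem uN_77176 : Upto T.chkName 77176 := upto_add uN_76479 rfl cN_76479
theorem uN_77861 : Upto T.chkName 77861 := upto_add uN_77176 rfl cN_77176
theorem uN_78541 : Upto T.chkName 78541 := upto_add uN_77861 rfl cN_77861
theorem uN_79223 : Upto T.chkName 79223 := upto_add uN_78541 rfl cN_78541
theorem uN_79901 : Upto T.chkName 79901 := upto_add uN_79223 rfl cN_79223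
theorem uN_80582 : Upto T.chkName 80582 := upto_add uN_79901 rfl cN_79901
theorem uN_81252 : Upto T.chkName 81252 := upto_add uN_80582 rfl cN_80582
theorem uN_81928 : Upto T.chkName 81928 := upto_add uN_81252 rfl cN_81252
theorem uN_82610 : Upto T.chkName 82610 := upto_add uN_81928 rfl cN_81928
theorem uN_83300 : Upto T.chkName 83300 := upto_add uN_82610 rfl cN_82610
theorem uN_83990 : Upto T.chkName 83990 := upto_add uN_83300 rfl cN_83300
theorem uN_84683 : Upto T.chkName 84683 := upto_add uN_83990 rfl cN_83990
theorem uN_85376 : Upto T.chkName 85376 := upto_add uN_84683 rfl cN_84683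
theorem uN_86067 : Upto T.chkName 86067 := upto_add uN_85376 rfl cN_85376
theorem uN_86758 : Upto T.chkName 86758 := upto_add uN_86067 rfl cN_86067
theorem uN_87451 : Upto T.chkName 87451 := upto_add uN_86758 rfl cN_86758
theorem uN_88151 : Upto T.chkName 88151 := upto_add uN_87451 rfl cN_87451
theorem uN_88823 : Upto T.chkName 88823 := upto_add uN_88151 rfl cN_88151
theorem uN_89515 : Upto T.chkName 89515 := upto_add uN_88823 rfl cN_88823
theorem uN_90193 : Upto T.chkName 90193 := upto_add uN_89515 rfl cN_89515
theorem uN_90873 : Upto T.chkName 90873 := upto_add uN_90193 rfl cN_90193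
theorem uN_91561 : Upto T.chkName 91561 := upto_add uN_90873 rfl cN_90873
theorem uN_92265 : Upto T.chkName 92265 := upto_add uN_91561 rfl cN_91561
theorem uN_92949 : Upto T.chkName 92949 := upto_add uN_92265 rfl cN_92265
theorem uN_93635 : Upto T.chkName 93635 := upto_add uN_92949 rfl cN_92949
theorem uN_94317 : Upto T.chkName 94317 := upto_add uN_93635 rfl cN_93635
theorem uN_94990 : Upto T.chkName 94990 := upto_add uN_94317 rfl cN_94317
theorem uN_95680 : Upto T.chkName 95680 := upto_add uN_94990 rfl cN_94990
theorem uN_96361 : Upto T.chkName 96361 := upto_add uN_95680 rfl cN_95680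
theorem uN_97055 : Upto T.chkName 97055 := upto_add uN_96361 rfl cN_96361
theorem uN_97733 : Upto T.chkName 97733 := upto_add uN_97055 rfl cN_97055
theorem uN_98416 : Upto T.chkName 98416 := upto_add uN_97733 rfl cN_97733
theorem uN_99103 : Upto T.chkName 99103 := upto_add uN_98416 rfl cN_98416
theorem uN_99797 : Upto T.chkName 99797 := upto_add uN_99103 rfl cN_99103
theorem uN_100476 : Upto T.chkName 100476 := upto_add uN_99797 rfl cN_99797
theorem uN_101163 : Upto T.chkName 101163 := upto_add uN_100476 rfl cN_100476
theorem uN_101861 : Upto T.chkName 101861 := upto_add uN_101163 rfl cN_101163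
theorem uN_102560 : Upto T.chkName 102560 := upto_add uN_101861 rfl cN_101861
theorem uN_103253 : Upto T.chkName 103253 := upto_add uN_102560 rfl cN_102560
theorem uN_103927 : Upto T.chkName 103927 := upto_add uN_103253 rfl cN_103253
theorem uN_104620 : Upto T.chkName 104620 := upto_add uN_103927 rfl cN_103927
theorem uN_105306 : Upto T.chkName 105306 := upto_add uN_104620 rfl cN_104620
theorem uN_106000 : Upto T.chkName 106000 := upto_add uN_105306 rfl cN_105306
theorem uN_106695 : Upto T.chkName 106695 := upto_add uN_106000 rfl cN_106000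
theorem uN_107386 : Upto T.chkName 107386 := upto_add uN_106695 rfl cN_106695
theorem uN_108078 : Upto T.chkName 108078 := upto_add uN_107386 rfl cN_107386
theorem uN_108778 : Upto T.chkName 108778 := upto_add uN_108078 rfl cN_108078
theorem uN_109470 : Upto T.chkName 109470 := upto_add uN_108778 rfl cN_108778
theorem uN_110161 : Upto T.chkName 110161 := upto_add uN_109470 rfl cN_109470
theorem uN_110857 : Upto T.chkName 110857 := upto_add uN_110161 rfl cN_110161
theorem uN_111546 : Upto T.chkName 111546 := upto_add uN_110857 rfl cN_110857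
theorem uN_112232 : Upto T.chkName 112232 := upto_add uN_111546 rfl cN_111546
theorem uN_112914 : Upto T.chkName 112914 := upto_add uN_112232 rfl cN_112232
theorem uN_113618 : Upto T.chkName 113618 := upto_add uN_112914 rfl cN_112914
theorem uN_114313 : Upto T.chkName 114313 := upto_add uN_113618 rfl cN_113618
theorem uN_115001 : Upto T.chkName 115001 := upto_add uN_114313 rfl cN_114313
theorem uN_115650 : Upto T.chkName 115650 := upto_add uN_115001 rfl cN_115001
theorem uN_116316 : Upto T.chkName 116316 := upto_add uN_115650 rfl cN_115650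
theorem uN_117004 : Upto T.chkName 117004 := upto_add uN_116316 rfl cN_116316
theorem uN_117693 : Upto T.chkName 117693 := upto_add uN_117004 rfl cN_117004
theorem uN_118332 : Upto T.chkName 118332 := upto_add uN_117693 rfl cN_117693
theorem uN_118982 : Upto T.chkName 118982 := upto_add uN_118332 rfl cN_118332
theorem uN_119636 : Upto T.chkName 119636 := upto_add uN_118982 rfl cN_118982
theorem uN_120288 : Upto T.chkName 120288 := upto_add uN_119636 rfl cN_119636
theorem uN_120956 : Upto T.chkName 120956 := upto_add uN_120288 rfl cN_120288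
theorem uN_121634 : Upto T.chkName 121634 := upto_add uN_120956 rfl cN_120956
theorem uN_122295 : Upto T.chkName 122295 := upto_add uN_121634 rfl cN_121634
theorem uN_122979 : Upto T.chkName 122979 := upto_add uN_122295 rfl cN_122295
theorem uN_123652 : Upto T.chkName 123652 := upto_add uN_122979 rfl cN_122979
theorem uN_124328 : Upto T.chkName 124328 := upto_add uN_123652 rfl cN_123652
theorem uN_125018 : Upto T.chkName 125018 := upto_add uN_124328 rfl cN_124328
theorem uN_125696 : Upto T.chkName 125696 := upto_add uN_125018 rfl cN_125018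
theorem uN_126376 : Upto T.chkName 126376 := upto_add uN_125696 rfl cN_125696
theorem uN_127055 : Upto T.chkName 127055 := upto_add uN_126376 rfl cN_126376
theorem uN_127747 : Upto T.chkName 127747 := upto_add uN_127055 rfl cN_127055
theorem uN_128432 : Upto T.chkName 128432 := upto_add uN_127747 rfl cN_127747
theorem uN_129116 : Upto T.chkName 129116 := upto_add uN_128432 rfl cN_128432
theorem uN_129787 : Upto T.chkName 129787 := upto_add uN_129116 rfl cN_129116
theorem uN_130466 : Upto T.chkName 130466 := upto_add uN_129787 rfl cN_129787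
theorem uN_131154 : Upto T.chkName 131154 := upto_add uN_130466 rfl cN_130466
theorem uN_131849 : Upto T.chkName 131849 := upto_add uN_131154 rfl cN_131154
theorem uN_132557 : Upto T.chkName 132557 := upto_add uN_131849 rfl cN_131849
theorem uN_133246 : Upto T.chkName 133246 := upto_add uN_132557 rfl cN_132557
theorem uN_133941 : Upto T.chkName 133941 := upto_add uN_133246 rfl cN_133246
theorem uN_134640 : Upto T.chkName 134640 := upto_add uN_133941 rfl cN_133941
theorem uN_135340 : Upto T.chkName 135340 := upto_add uN_134640 rfl cN_134640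
theorem uN_136035 : Upto T.chkName 136035 := upto_add uN_135340 rfl cN_135340
theorem uN_136737 : Upto T.chkName 136737 := upto_add uN_136035 rfl cN_136035
theorem uN_137435 : Upto T.chkName 137435 := upto_add uN_136737 rfl cN_136737
theorem uN_138129 : Upto T.chkName 138129 := upto_add uN_137435 rfl cN_137435
theorem uN_138826 : Upto T.chkName 138826 := upto_add uN_138129 rfl cN_138129
theorem uN_139501 : Upto T.chkName 139501 := upto_add uN_138826 rfl cN_138826
theorem uN_140182 : Upto T.chkName 140182 := upto_add uN_139501 rfl cN_139501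
theorem uN_140855 : Upto T.chkName 140855 := upto_add uN_140182 rfl cN_140182
theorem uN_141513 : Upto T.chkName 141513 := upto_add uN_140855 rfl cN_140855
theorem uN_142187 : Upto T.chkName 142187 := upto_add uN_141513 rfl cN_141513
theorem uN_142846 : Upto T.chkName 142846 := upto_add uN_142187 rfl cN_142187
theorem uN_143512 : Upto T.chkName 143512 := upto_add uN_142846 rfl cN_142846
theorem uN_144184 : Upto T.chkName 144184 := upto_add uN_143512 rfl cN_143512
theorem uN_144853 : Upto T.chkName 144853 := upto_add uN_144184 rfl cN_144184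
theorem uN_145531 : Upto T.chkName 145531 := upto_add uN_144853 rfl cN_144853
theorem uN_146207 : Upto T.chkName 146207 := upto_add uN_145531 rfl cN_145531
theorem uN_146896 : Upto T.chkName 146896 := upto_add uN_146207 rfl cN_146207
theorem uN_147571 : Upto T.chkName 147571 := upto_add uN_146896 rfl cN_146896
theorem uN_148247 : Upto T.chkName 148247 := upto_add uN_147571 rfl cN_147571
theorem uN_148918 : Upto T.chkName 148918 := upto_add uN_148247 rfl cN_148247
theorem uN_149584 : Upto T.chkName 149584 := upto_add uN_148918 rfl cN_148918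
theorem uN_150251 : Upto T.chkName 150251 := upto_add uN_149584 rfl cN_149584
theorem uN_150917 : Upto T.chkName 150917 := upto_add uN_150251 rfl cN_150251
theorem uN_151599 : Upto T.chkName 151599 := upto_add uN_150917 rfl cN_150917
theorem uN_152253 : Upto T.chkName 152253 := upto_add uN_151599 rfl cN_151599
theorem uN_152917 : Upto T.chkName 152917 := upto_add uN_152253 rfl cN_152253
theorem uN_153596 : Upto T.chkName 153596 := upto_add uN_152917 rfl cN_152917
theorem uN_154248 : Upto T.chkName 154248 := upto_add uN_153596 rfl cN_153596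
theorem uN_154897 : Upto T.chkName 154897 := upto_add uN_154248 rfl cN_154248
theorem uN_155585 : Upto T.chkName 155585 := upto_add uN_154897 rfl cN_154897
theorem uN_156266 : Upto T.chkName 156266 := upto_add uN_155585 rfl cN_155585
theorem uN_156956 : Upto T.chkName 156956 := upto_add uN_156266 rfl cN_156266
theorem uN_157623 : Upto T.chkName 157623 := upto_add uN_156956 rfl cN_156956
theorem uN_158289 : Upto T.chkName 158289 := upto_add uN_157623 rfl cN_157623
theorem uN_158953 : Upto T.chkName 158953 := upto_add uN_158289 rfl cN_158289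
theorem uN_159637 : Upto T.chkName 159637 := upto_add uN_158953 rfl cN_158953
theorem uN_160323 : Upto T.chkName 160323 := upto_add uN_159637 rfl cN_159637
theorem uN_161004 : Upto T.chkName 161004 := upto_add uN_160323 rfl cN_160323
theorem uN_161690 : Upto T.chkName 161690 := upto_add uN_161004 rfl cN_161004
theorem uN_162384 : Upto T.chkName 162384 := upto_add uN_161690 rfl cN_161690
theorem uN_163061 : Upto T.chkName 163061 := upto_add uN_162384 rfl cN_162384
theorem uN_163752 : Upto T.chkName 163752 := upto_add uN_163061 rfl cN_163061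
theorem uN_164439 : Upto T.chkName 164439 := upto_add uN_163752 rfl cN_163752
theorem uN_165128 : Upto T.chkName 165128 := upto_add uN_164439 rfl cN_164439
theorem uN_165812 : Upto T.chkName 165812 := upto_add uN_165128 rfl cN_165128
theorem uN_166503 : Upto T.chkName 166503 := upto_add uN_165812 rfl cN_165812
theorem uN_166992 : Upto T.chkName 166992 := upto_add uN_166503 rfl cN_166503
theorem uF_222 : Upto T.chkFinName 222 := upto_add (upto_zero T.chkFinName) rfl cF_0
theorem uF_416 : Upto T.chkFinName 416 := upto_add uF_222 rfl cF_222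

/-- The certificate is valid. -/
theorem certC : CertC T where
  hNN := by decide +kernel
  hN := by decide +kernel
  hinvK := by decide +kernel
  hinvli := by decide +kernel
  hsubK := by decide +kernel
  hrelK := by decide +kernel
  hrx := by decide +kernel
  hchk := uN_166992
  hfin := uF_416

end Cfsg.Agent.Lib.Helper28.G2Mult.L0
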