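import Mathlib
import Cfsg.Agent.Lib.Helper56.TC
import Cfsg.Agent.Lib.Helper56.TCFast
import Cfsg.Agent.Lib.Helper28.CoverL
import Cfsg.Agent.Lib.Helper28.G2Mult.Words
import Cfsg.Agent.Lib.Helper28.G2Mult.L0.DA0
import Cfsg.Agent.Lib.Helper28.G2Mult.L0.DA1
import Cfsg.Agent.Lib.Helper28.G2Mult.L0.DA2
import Cfsg.Agent.Lib.Helper28.G2Mult.L0.DA3
import Cfsg.Agent.Lib.Helper28.G2Mult.L0.DA4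
import Cfsg.Agent.Lib.Helper28.G2Mult.L0.DA5
set_option autoImplicit false
set_option maxRecDepth 1000000

namespace Cfsg.Agent.Lib.Helper28.G2Mult.L0

open Cfsg.Agent.Lib.Helper56.TC Cfsg.Agent.Lib.Helper56.TC.Tabs
open Cfsg.Agent.Lib.Helper28.CovL

open Cfsg.Agent.Lib.Helper28.G2Mult.Words

noncomputable def nA : List (List ℕ) := [nA0, nA1, nA2, nA3, nA4, nA5, nA6, nA7, nA8, nA9, nA10, nA11, nA12, nA13, nA14, nA15, nA16, nA17, nA18, nA19, nA20, nA21, nA22, nA23, nA24, nA25, nA26, nA27, nA28, nA29, nA30, nA31, nA32, nA33, nA34, nA35, nA36, nA37, nA38, nA39, nA40, nA41, nA42, nA43, nA44, nA45, nA46, nA47, nA48, nA49, nA50, nA51, nA52, nA53, nA54, nA55, nA56, nA57, nA58, nA59, nA60, nA61, nA62, nA63, nA64, nA65, nA66, nA67, nA68, nA69,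 nA70, nA71, nA72, nA73, nA74, nA75, nA76, nA77, nA78, nA79, nA80, nA81, nA82, nA83, nA84, nA85, nA86, nA87, nA88, nA89, nA90, nA91, nA92, nA93, nA94, nA95, nA96, nA97, nA98, nA99, nA100, nA101, nA102, nA103, nA104, nA105, nA106, nA107, nA108, nA109, nA110, nA111, nA112, nA113, nA114, nA115, nA116, nA117, nA118, nA119, nA120, nA121, nA122, nA123, nA124, nA125, nA126, nA127, nA128, nA129, nA130, nA131, nA132, nA133, nA134, nA135, nA136, nA137, nA138, nA139, nA140, nA141, nA142, nA143, nA144, nA145, nA146, nA147, nA148, nA149, nA150, nA151, nA152, nA153, nA154, nA155, nA156, nA157, nA158, nA159, nA160, nA161, nA162, nA163, nA164, nA165, nA166, nA167, nA168, nA169, nA170, nA171, nA172, nA173, nA174, nA175, nA176, nA177, nA178, nA179, nA180,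 nA181, nA182, nA183, nA184, nA185, nA186, nA187, nA188, nA189, nA190, nA191, nA192, nA193, nA194, nA195, nA196, nA197, nA198, nA199, nA200, nA201, nA202, nA203, nA204, nA205, nA206, nA207, nA208, nA209, nA210, nA211, nA212, nA213, nA214, nA215, nA216, nA217]

noncomputable def fA : List (List ℕ) := [fA0]

/-- The certificate data. -/
noncomputable def T : Tabs where
  K := 12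
  N := 416
  N' := 166992
  INF := 141504
  fuel := 11
  inv := fun l => Tabs.nth 0 [1, 0, 3, 2, 5, 4, 7, 6, 9, 8, 11, 10] l
  tg := slotFld2 nA 24 678 1254114127528279663858649702758819738757691336351197686075754380957778013777036862877289423055073845679040662969631723812346323072954131093770936672842951023567968290121184491680065097304421119039367020543 12 51 66 262143 (fun _ => 0)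
  rk := slotFld2 nA 24 678 1254114127528279663858649702758819738757691336351197686075754380957778013777036862877289423055073845679040662969631723812346323072954131093770936672842951023567968290121184491680065097304421119039367020543 12 51 84 262143
    (fun x => Nat.rec (motive := fun _ => ℕ) 0 (fun _ _ => 141504) x)
  jc := slotFld2 nA 24 678 1254114127528279663858649702758819738757691336351197686075754380957778013777036862877289423055073845679040662969631723812346323072954131093770936672842951023567968290121184491680065097304421119039367020543 12 51 102 32767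
    (fun x => Nat.rec (motive := fun _ => ℕ) 3 (fun _ _ => 0) x)
  dd := fldA nA 24 678 1254114127528279663858649702758819738757691336351197686075754380957778013777036862877289423055073845679040662969631723812346323072954131093770936672842951023567968290121184491680065097304421119039367020543 0 1023
  dl := fldA nA 24 678 1254114127528279663858649702758819738757691336351197686075754380957778013777036862877289423055073845679040662969631723812346323072954131093770936672842951023567968290121184491680065097304421119039367020543 10 15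
  qj := fldA nA 24 678 1254114127528279663858649702758819738757691336351197686075754380957778013777036862877289423055073845679040662969631723812346323072954131093770936672842951023567968290121184491680065097304421119039367020543 14 65535
  mp := fldA nA 24 678 1254114127528279663858649702758819738757691336351197686075754380957778013777036862877289423055073845679040662969631723812346323072954131093770936672842951023567968290121184491680065097304421119039367020543 30 262143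
  mt := fldA nA 24 678 1254114127528279663858649702758819738757691336351197686075754380957778013777036862877289423055073845679040662969631723812346323072954131093770936672842951023567968290121184491680065097304421119039367020543 48 262143
  tb := tbFld2 fA 120 136 87112285931760246646623899502532662132735 9 28 511
  rels1 := coverList 6 relL0 (fun x => facsL0.getD x [])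
  subs := subs0
  rx := [[2, 0, 0, 3, 1, 1],
    [4, 0, 0, 5, 1, 1],
    [6, 0, 0, 7, 1, 1],
    [8, 0, 0, 9, 1, 1],
    [10, 0, 0, 11, 1, 1],
    [0, 2, 2, 1, 3, 3],
    [4, 2, 2, 5, 3, 3],
    [6, 2, 2, 7, 3, 3],
    [8, 2, 2, 9, 3, 3],
    [10, 2, 2, 11, 3, 3],
    [0, 4, 4, 1, 5, 5],
    [2, 4, 4, 3, 5, 5],
    [6, 4, 4, 7, 5, 5],
    [8, 4, 4, 9, 5, 5],
    [10, 4, 4, 11, 5, 5],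
    [0, 6, 6, 1, 7, 7],
    [2, 6, 6, 3, 7, 7],
    [4, 6, 6, 5, 7, 7],
    [8, 6, 6, 9, 7, 7],
    [10, 6, 6, 11, 7, 7],
    [0, 8, 8, 1, 9, 9],
    [2, 8, 8, 3, 9, 9],
    [4, 8, 8, 5, 9, 9],
    [6, 8, 8, 7, 9, 9],
    [10, 8, 8, 11, 9, 9],
    [0, 10, 10, 1, 11, 11],
    [2, 10, 10, 3, 11, 11],
    [4, 10, 10, 5, 11, 11],
    [6, 10, 10, 7, 11, 11],
    [8, 10, 10, 9, 11, 11],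
    [0, 4, 6, 4, 6, 4, 6, 4, 6, 4, 6, 1, 7, 5, 7, 5, 7, 5, 7, 5, 7, 5],
    [2, 4, 6, 4, 6, 4, 6, 4, 6, 4, 6, 3, 7, 5, 7, 5, 7, 5, 7, 5, 7, 5],
    [4, 4, 6, 4, 6, 4, 6, 4, 6, 4, 6, 5, 7, 5, 7, 5, 7, 5, 7, 5, 7, 5],
    [6, 4, 6, 4, 6, 4, 6, 4, 6, 4, 6, 7, 7, 5, 7, 5, 7, 5, 7, 5, 7, 5],
    [8, 4, 6, 4, 6, 4, 6, 4, 6, 4, 6, 9, 7, 5, 7, 5, 7, 5, 7, 5, 7, 5],
    [10, 4, 6, 4, 6, 4, 6, 4, 6, 4, 6, 11, 7, 5, 7, 5, 7, 5, 7, 5, 7, 5],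
    [0, 4, 0, 4, 0, 1, 1, 5, 1, 5],
    [2, 4, 0, 4, 0, 3, 1, 5, 1, 5],
    [4, 4, 0, 4, 0, 5, 1, 5, 1, 5],
    [6, 4, 0, 4, 0, 7, 1, 5, 1, 5],
    [8, 4, 0, 4, 0, 9, 1, 5, 1, 5],
    [10, 4, 0, 4, 0, 11, 1, 5, 1, 5],
    [0, 4, 2, 4, 2, 1, 3, 5, 3, 5],
    [2, 4, 2, 4, 2, 3, 3, 5, 3, 5],
    [4, 4, 2, 4, 2, 5, 3, 5, 3, 5],
    [6, 4, 2, 4, 2, 7, 3, 5, 3, 5],
    [8, 4, 2, 4, 2, 9, 3, 5, 3, 5],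
    [10, 4, 2, 4, 2, 11, 3, 5, 3, 5],
    [0, 4, 8, 4, 8, 1, 9, 5, 9, 5],
    [2, 4, 8, 4, 8, 3, 9, 5, 9, 5],
    [4, 4, 8, 4, 8, 5, 9, 5, 9, 5],
    [6, 4, 8, 4, 8, 7, 9, 5, 9, 5],
    [8, 4, 8, 4, 8, 9, 9, 5, 9, 5],
    [10, 4, 8, 4, 8, 11, 9, 5, 9, 5],
    [0, 4, 10, 4, 10, 1, 11, 5, 11, 5],
    [2, 4, 10, 4, 10, 3, 11, 5, 11, 5],
    [4, 4, 10, 4, 10, 5, 11, 5, 11, 5],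
    [6, 4, 10, 4, 10, 7, 11, 5, 11, 5],
    [8, 4, 10, 4, 10, 9, 11, 5, 11, 5],
    [10, 4, 10, 4, 10, 11, 11, 5, 11, 5],
    [0, 6, 0, 6, 0, 6, 0, 1, 1, 7, 1, 7, 1, 7],
    [2, 6, 0, 6, 0, 6, 0, 3, 1, 7, 1, 7, 1, 7],
    [4, 6, 0, 6, 0, 6, 0, 5, 1, 7, 1, 7, 1, 7],
    [6, 6, 0, 6, 0, 6, 0, 7, 1, 7, 1, 7, 1, 7],
    [8, 6, 0, 6, 0, 6, 0, 9, 1, 7, 1, 7, 1, 7],
    [10, 6, 0, 6, 0, 6, 0, 11, 1, 7, 1, 7, 1, 7],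
    [0, 6, 2, 6, 2, 1, 3, 7, 3, 7],
    [2, 6, 2, 6, 2, 3, 3, 7, 3, 7],
    [4, 6, 2, 6, 2, 5, 3, 7, 3, 7],
    [6, 6, 2, 6, 2, 7, 3, 7, 3, 7],
    [8, 6, 2, 6, 2, 9, 3, 7, 3, 7],
    [10, 6, 2, 6, 2, 11, 3, 7, 3, 7],
    [0, 6, 8, 6, 8, 1, 9, 7, 9, 7],
    [2, 6, 8, 6, 8, 3, 9, 7, 9, 7],
    [4, 6, 8, 6, 8, 5, 9, 7, 9, 7],
    [6, 6, 8, 6, 8, 7, 9, 7, 9, 7],
    [8, 6, 8, 6, 8, 9, 9, 7, 9, 7],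
    [10, 6, 8, 6, 8, 11, 9, 7, 9, 7],
    [0, 6, 10, 6, 10, 6, 10, 1, 11, 7, 11, 7, 11, 7],
    [2, 6, 10, 6, 10, 6, 10, 3, 11, 7, 11, 7, 11, 7],
    [4, 6, 10, 6, 10, 6, 10, 5, 11, 7, 11, 7, 11, 7],
    [6, 6, 10, 6, 10, 6, 10, 7, 11, 7, 11, 7, 11, 7],
    [8, 6, 10, 6, 10, 6, 10, 9, 11, 7, 11, 7, 11, 7],
    [10, 6, 10, 6, 10, 6, 10, 11, 11, 7, 11, 7, 11, 7],
    [0, 0, 2, 0, 2, 0, 2, 0, 2, 0, 2, 0, 2, 0, 2, 0, 2, 1, 3, 1, 3, 1, 3, 1, 3, 1, 3, 1, 3, 1, 3, 1, 3, 1],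
    [2, 0, 2, 0, 2, 0, 2, 0, 2, 0, 2, 0, 2, 0, 2, 0, 2, 3, 3, 1, 3, 1, 3, 1, 3, 1, 3, 1, 3, 1, 3, 1, 3, 1],
    [4, 0, 2, 0, 2, 0, 2, 0, 2, 0, 2, 0, 2, 0, 2, 0, 2, 5, 3, 1, 3, 1, 3, 1, 3, 1, 3, 1, 3, 1, 3, 1, 3, 1],
    [6, 0, 2, 0, 2, 0, 2, 0, 2, 0, 2, 0, 2, 0, 2, 0, 2, 7, 3, 1, 3, 1, 3, 1, 3, 1, 3, 1, 3, 1, 3, 1, 3, 1],
    [8, 0, 2, 0, 2, 0, 2, 0, 2, 0, 2, 0, 2, 0, 2, 0, 2, 9, 3, 1, 3, 1, 3, 1, 3, 1, 3, 1, 3, 1, 3, 1, 3, 1],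
    [10, 0, 2, 0, 2, 0, 2, 0, 2, 0, 2, 0, 2, 0, 2, 0, 2, 11, 3, 1, 3, 1, 3, 1, 3, 1, 3, 1, 3, 1, 3, 1, 3, 1],
    [0, 0, 8, 0, 8, 1, 9, 1, 9, 1],
    [2, 0, 8, 0, 8, 3, 9, 1, 9, 1],
    [4, 0, 8, 0, 8, 5, 9, 1, 9, 1],
    [6, 0, 8, 0, 8, 7, 9, 1, 9, 1],
    [8, 0, 8, 0, 8, 9, 9, 1, 9, 1],
    [10, 0, 8, 0, 8, 11, 9, 1, 9, 1],
    [0, 0, 10, 0, 10, 1, 11, 1, 11, 1],
    [2, 0, 10, 0, 10, 3, 11, 1, 11, 1],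
    [4, 0, 10, 0, 10, 5, 11, 1, 11, 1],
    [6, 0, 10, 0, 10, 7, 11, 1, 11, 1],
    [8, 0, 10, 0, 10, 9, 11, 1, 11, 1],
    [10, 0, 10, 0, 10, 11, 11, 1, 11, 1],
    [0, 2, 8, 2, 8, 2, 8, 1, 9, 3, 9, 3, 9, 3],
    [2, 2, 8, 2, 8, 2, 8, 3, 9, 3, 9, 3, 9, 3],
    [4, 2, 8, 2, 8, 2, 8, 5, 9, 3, 9, 3, 9, 3],
    [6, 2, 8, 2, 8, 2, 8, 7, 9, 3, 9, 3, 9, 3],
    [8, 2, 8, 2, 8, 2, 8, 9, 9, 3, 9, 3, 9, 3],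
    [10, 2, 8, 2, 8, 2, 8, 11, 9, 3, 9, 3, 9, 3],
    [0, 2, 10, 2, 10, 1, 11, 3, 11, 3],
    [2, 2, 10, 2, 10, 3, 11, 3, 11, 3],
    [4, 2, 10, 2, 10, 5, 11, 3, 11, 3],
    [6, 2, 10, 2, 10, 7, 11, 3, 11, 3],
    [8, 2, 10, 2, 10, 9, 11, 3, 11, 3],
    [10, 2, 10, 2, 10, 11, 11, 3, 11, 3],
    [0, 8, 10, 8, 10, 1, 11, 9, 11, 9],
    [2, 8, 10, 8, 10, 3, 11, 9, 11, 9],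
    [4, 8, 10, 8, 10, 5, 11, 9, 11, 9],
    [6, 8, 10, 8, 10, 7, 11, 9, 11, 9],
    [8, 8, 10, 8, 10, 9, 11, 9, 11, 9],
    [10, 8, 10, 8, 10, 11, 11, 9, 11, 9],
    [0, 4, 0, 2, 0, 2, 0, 2, 0, 2, 1, 3, 1, 3, 1, 3, 1, 3, 1, 5],
    [2, 4, 0, 2, 0, 2, 0, 2, 0, 2, 3, 3, 1, 3, 1, 3, 1, 3, 1, 5],
    [4, 4, 0, 2, 0, 2, 0, 2, 0, 2, 5, 3, 1, 3, 1, 3, 1, 3, 1, 5],
    [6, 4, 0, 2, 0, 2, 0, 2, 0, 2, 7, 3, 1, 3, 1, 3, 1, 3, 1, 5],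
    [8, 4, 0, 2, 0, 2, 0, 2, 0, 2, 9, 3, 1, 3, 1, 3, 1, 3, 1, 5],
    [10, 4, 0, 2, 0, 2, 0, 2, 0, 2, 11, 3, 1, 3, 1, 3, 1, 3, 1, 5],
    [0, 4, 6, 0, 10, 4, 6, 0, 10, 4, 6, 0, 10, 4, 6, 0, 10, 4, 6, 0, 10, 1, 11, 1, 7, 5, 11, 1, 7, 5, 11, 1, 7, 5, 11, 1, 7, 5, 11, 1, 7, 5],
    [2, 4, 6, 0, 10, 4, 6, 0, 10, 4, 6, 0, 10, 4, 6, 0, 10, 4, 6, 0, 10, 3, 11, 1, 7, 5, 11, 1, 7, 5, 11, 1, 7, 5, 11, 1, 7, 5, 11, 1, 7, 5],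
    [4, 4, 6, 0, 10, 4, 6, 0, 10, 4, 6, 0, 10, 4, 6, 0, 10, 4, 6, 0, 10, 5, 11, 1, 7, 5, 11, 1, 7, 5, 11, 1, 7, 5, 11, 1, 7, 5, 11, 1, 7, 5],
    [6, 4, 6, 0, 10, 4, 6, 0, 10, 4, 6, 0, 10, 4, 6, 0, 10, 4, 6, 0, 10, 7, 11, 1, 7, 5, 11, 1, 7, 5, 11, 1, 7, 5, 11, 1, 7, 5, 11, 1, 7, 5],
    [8, 4, 6, 0, 10, 4, 6, 0, 10, 4, 6, 0, 10, 4, 6, 0, 10, 4, 6, 0, 10, 9, 11, 1, 7, 5, 11, 1, 7, 5, 11, 1, 7, 5, 11, 1, 7, 5, 11, 1, 7, 5],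
    [10, 4, 6, 0, 10, 4, 6, 0, 10, 4, 6, 0, 10, 4, 6, 0, 10, 4, 6, 0, 10, 11, 11, 1, 7, 5, 11, 1, 7, 5, 11, 1, 7, 5, 11, 1, 7, 5, 11, 1, 7, 5],
    [0, 6, 0, 2, 0, 2, 6, 0, 2, 0, 2, 6, 0, 2, 0, 2, 6, 0, 2, 0, 2, 6, 0, 2, 0, 2, 8, 6, 0, 2, 0, 2, 6, 0, 2, 0, 2, 6, 0, 2, 0, 2, 6, 0, 2, 0, 2, 6, 0, 2, 0, 2, 8, 6, 0, 2, 0, 2, 6, 0, 2, 0, 2, 6, 0, 2, 0, 2, 6, 0, 2, 0, 2, 6, 0, 2, 0, 2, 8, 1, 9, 3, 1, 3, 1, 7, 3, 1, 3, 1, 7, 3, 1, 3, 1, 7, 3, 1, 3, 1, 7, 3, 1, 3, 1, 7, 9, 3, 1, 3, 1, 7, 3, 1, 3, 1, 7, 3, 1, 3, 1, 7, 3, 1, 3, 1, 7, 3, 1, 3, 1, 7, 9, 3, 1, 3, 1, 7, 3, 1, 3, 1, 7, 3, 1, 3, 1, 7, 3, 1, 3, 1, 7, 3, 1, 3, 1, 7],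
    [2, 6, 0, 2, 0, 2, 6, 0, 2, 0, 2, 6, 0, 2, 0, 2, 6, 0, 2, 0, 2, 6, 0, 2, 0, 2, 8, 6, 0, 2, 0, 2, 6, 0, 2, 0, 2, 6, 0, 2, 0, 2, 6, 0, 2, 0, 2, 6, 0, 2, 0, 2, 8, 6, 0, 2, 0, 2, 6, 0, 2, 0, 2, 6, 0, 2, 0, 2, 6, 0, 2, 0, 2, 6, 0, 2, 0, 2, 8, 3, 9, 3, 1, 3, 1, 7, 3, 1, 3, 1, 7, 3, 1, 3, 1, 7, 3, 1, 3, 1, 7, 3, 1, 3, 1, 7, 9, 3, 1, 3, 1, 7, 3, 1, 3, 1, 7, 3, 1, 3, 1, 7, 3, 1, 3, 1, 7, 3, 1, 3, 1, 7, 9, 3, 1, 3, 1, 7, 3, 1, 3, 1, 7, 3, 1, 3, 1, 7, 3, 1, 3, 1, 7, 3, 1, 3, 1, 7],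
    [4, 6, 0, 2, 0, 2, 6, 0, 2, 0, 2, 6, 0, 2, 0, 2, 6, 0, 2, 0, 2, 6, 0, 2, 0, 2, 8, 6, 0, 2, 0, 2, 6, 0, 2, 0, 2, 6, 0, 2, 0, 2, 6, 0, 2, 0, 2, 6, 0, 2, 0, 2, 8, 6, 0, 2, 0, 2, 6, 0, 2, 0, 2, 6, 0, 2, 0, 2, 6, 0, 2, 0, 2, 6, 0, 2, 0, 2, 8, 5, 9, 3, 1, 3, 1, 7, 3, 1, 3, 1, 7, 3, 1, 3, 1, 7, 3, 1, 3, 1, 7, 3, 1, 3, 1, 7, 9, 3, 1, 3, 1, 7, 3, 1, 3, 1, 7, 3, 1, 3, 1, 7, 3, 1, 3, 1, 7, 3, 1, 3, 1, 7, 9, 3, 1, 3, 1, 7, 3, 1, 3, 1, 7, 3, 1, 3, 1, 7, 3, 1, 3, 1, 7, 3, 1, 3, 1, 7],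
    [6, 6, 0, 2, 0, 2, 6, 0, 2, 0, 2, 6, 0, 2, 0, 2, 6, 0, 2, 0, 2, 6, 0, 2, 0, 2, 8, 6, 0, 2, 0, 2, 6, 0, 2, 0, 2, 6, 0, 2, 0, 2, 6, 0, 2, 0, 2, 6, 0, 2, 0, 2, 8, 6, 0, 2, 0, 2, 6, 0, 2, 0, 2, 6, 0, 2, 0, 2, 6, 0, 2, 0, 2, 6, 0, 2, 0, 2, 8, 7, 9, 3, 1, 3, 1, 7, 3, 1, 3, 1, 7, 3, 1, 3, 1, 7, 3, 1, 3, 1, 7, 3, 1, 3, 1, 7, 9, 3, 1, 3, 1, 7, 3, 1, 3, 1, 7, 3, 1, 3, 1, 7, 3, 1, 3, 1, 7, 3, 1, 3, 1, 7, 9, 3, 1, 3, 1, 7, 3, 1, 3, 1, 7, 3, 1, 3, 1, 7, 3, 1, 3, 1, 7, 3, 1, 3, 1, 7],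
    [8, 6, 0, 2, 0, 2, 6, 0, 2, 0, 2, 6, 0, 2, 0, 2, 6, 0, 2, 0, 2, 6, 0, 2, 0, 2, 8, 6, 0, 2, 0, 2, 6, 0, 2, 0, 2, 6, 0, 2, 0, 2, 6, 0, 2, 0, 2, 6, 0, 2, 0, 2, 8, 6, 0, 2, 0, 2, 6, 0, 2, 0, 2, 6, 0, 2, 0, 2, 6, 0, 2, 0, 2, 6, 0, 2, 0, 2, 8, 9, 9, 3, 1, 3, 1, 7, 3, 1, 3, 1, 7, 3, 1, 3, 1, 7, 3, 1, 3, 1, 7, 3, 1, 3, 1, 7, 9, 3, 1, 3, 1, 7, 3, 1, 3, 1, 7, 3, 1, 3, 1, 7, 3, 1, 3, 1, 7, 3, 1, 3, 1, 7, 9, 3, 1, 3, 1, 7, 3, 1, 3, 1, 7, 3, 1, 3, 1, 7, 3, 1, 3, 1, 7, 3, 1, 3, 1, 7],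
    [10, 6, 0, 2, 0, 2, 6, 0, 2, 0, 2, 6, 0, 2, 0, 2, 6, 0, 2, 0, 2, 6, 0, 2, 0, 2, 8, 6, 0, 2, 0, 2, 6, 0, 2, 0, 2, 6, 0, 2, 0, 2, 6, 0, 2, 0, 2, 6, 0, 2, 0, 2, 8, 6, 0, 2, 0, 2, 6, 0, 2, 0, 2, 6, 0, 2, 0, 2, 6, 0, 2, 0, 2, 6, 0, 2, 0, 2, 8, 11, 9, 3, 1, 3, 1, 7, 3, 1, 3, 1, 7, 3, 1, 3, 1, 7, 3, 1, 3, 1, 7, 3, 1, 3, 1, 7, 9, 3, 1, 3, 1, 7, 3, 1, 3, 1, 7, 3, 1, 3, 1, 7, 3, 1, 3, 1, 7, 3, 1, 3, 1, 7, 9, 3, 1, 3, 1, 7, 3, 1, 3, 1, 7, 3, 1, 3, 1, 7, 3, 1, 3, 1, 7, 3, 1, 3, 1, 7],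
    [1, 7, 1, 7, 1, 7, 7, 7, 0, 0, 0, 0, 0, 0, 4, 6, 4, 6, 4, 6, 4, 6, 4, 6, 5, 5, 5, 5, 3, 1, 3, 1, 3, 1, 3, 1, 5, 2, 2, 2, 2],
    [9, 3, 9, 3, 9, 3, 3, 3, 3, 3, 3, 3, 3, 3, 3, 3, 3, 3, 3, 3, 3, 3, 3, 3, 3, 3, 3, 3, 3, 3, 3, 3, 3, 3, 3, 3, 3, 3, 6, 0, 2, 0, 2, 6, 0, 2, 0, 2, 6, 0, 2, 0, 2, 6, 0, 2, 0, 2, 6, 0, 2, 0, 2, 8, 6, 0, 2, 0, 2, 6, 0, 2, 0, 2, 6, 0, 2, 0, 2, 6, 0, 2, 0, 2, 6, 0, 2, 0, 2, 8, 6, 0, 2, 0, 2, 6, 0, 2, 0, 2, 6, 0, 2, 0, 2, 6, 0, 2, 0, 2, 6, 0, 2, 0, 2, 8, 7, 7, 7, 7, 7, 7, 7, 7, 7, 7, 1, 1, 1, 1, 1, 1, 1, 1, 1, 1, 1, 1, 1, 1, 1, 1, 1, 1, 1, 1, 1, 1, 1, 1, 1, 1, 1, 1, 1, 1, 1, 1, 1, 1, 7, 5, 7, 5, 7, 5, 7, 5, 7, 5, 4, 4, 4, 4, 4, 0, 2, 0, 2, 0, 2, 0, 2],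
    [3, 1, 3, 1, 3, 1, 3, 1, 5, 0, 0, 0, 0, 2, 2, 2, 2],
    [7, 5, 7, 5, 7, 5, 7, 5, 7, 5, 4, 4, 4, 4, 6, 6, 6, 6, 4, 0, 2, 0, 2, 0, 2, 0, 2, 1, 1, 1, 1, 3, 3, 3, 3],
    [9, 3, 1, 3, 1, 7, 3, 1, 3, 1, 7, 3, 1, 3, 1, 7, 3, 1, 3, 1, 7, 3, 1, 3, 1, 7, 9, 3, 1, 3, 1, 7, 3, 1, 3, 1, 7, 3, 1, 3, 1, 7, 3, 1, 3, 1, 7, 3, 1, 3, 1, 7, 9, 3, 1, 3, 1, 7, 3, 1, 3, 1, 7, 3, 1, 3, 1, 7, 3, 1, 3, 1, 7, 3, 1, 3, 1, 7, 6, 6, 6, 6, 6, 6, 6, 6, 6, 6, 0, 0, 0, 0, 0, 0, 0, 0, 0, 0, 0, 0, 0, 0, 0, 0, 0, 0, 0, 0, 0, 0, 0, 0, 0, 0, 0, 0, 0, 0, 0, 0, 0, 0, 2, 2, 2, 2, 2, 2, 2, 2, 2, 2, 2, 2, 2, 2, 2, 2, 2, 2, 2, 2, 2, 2, 2, 2, 2, 2, 2, 2, 2, 2, 2, 2, 2, 2, 8, 8, 4, 6, 4, 6, 4, 6, 4, 6, 4, 6, 5, 5, 5, 5, 3, 1, 3, 1, 3, 1, 3, 1, 5],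
    [11, 7, 11, 7, 11, 7, 7, 7, 10, 10, 4, 6, 4, 6, 4, 6, 4, 6, 4, 6, 5, 5, 5, 5, 3, 1, 3, 1, 3, 1, 3, 1, 5, 0, 0, 0, 0, 2, 2, 2, 2],
    [0, 1, 7, 1, 7, 1, 7, 7, 7, 0, 0, 0, 0, 0, 0, 4, 6, 4, 6, 4, 6, 4, 6, 4, 6, 5, 5, 5, 5, 3, 1, 3, 1, 3, 1, 3, 1, 5, 2, 2, 2, 2, 12],
    [2, 9, 3, 9, 3, 9, 3, 3, 3, 3, 3, 3, 3, 3, 3, 3, 3, 3, 3, 3, 3, 3, 3, 3, 3, 3, 3, 3, 3, 3, 3, 3, 3, 3, 3, 3, 3, 3, 3, 6, 0, 2, 0, 2, 6, 0, 2, 0, 2, 6, 0, 2, 0, 2, 6, 0, 2, 0, 2, 6, 0, 2, 0, 2, 8, 6, 0, 2, 0, 2, 6, 0, 2, 0, 2, 6, 0, 2, 0, 2, 6, 0, 2, 0, 2, 6, 0, 2, 0, 2, 8, 6, 0, 2, 0, 2, 6, 0, 2, 0, 2, 6, 0, 2, 0, 2, 6, 0, 2, 0, 2, 6, 0, 2, 0, 2, 8, 7, 7, 7, 7, 7, 7, 7, 7, 7, 7, 1, 1, 1, 1, 1, 1, 1, 1, 1, 1, 1, 1, 1, 1, 1, 1, 1, 1, 1, 1, 1, 1, 1, 1, 1, 1, 1, 1, 1, 1,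 1, 1, 1, 1, 7, 5, 7, 5, 7, 5, 7, 5, 7, 5, 4, 4, 4, 4, 4, 0, 2, 0, 2, 0, 2, 0, 2, 13],
    [4, 3, 1, 3, 1, 3, 1, 3, 1, 5, 0, 0, 0, 0, 2, 2, 2, 2, 14],
    [6, 7, 5, 7, 5, 7, 5, 7, 5, 7, 5, 4, 4, 4, 4, 6, 6, 6, 6, 4, 0, 2, 0, 2, 0, 2, 0, 2, 1, 1, 1, 1, 3, 3, 3, 3, 15],
    [8, 9, 3, 1, 3, 1, 7, 3, 1, 3, 1, 7, 3, 1, 3, 1, 7, 3, 1, 3, 1, 7, 3, 1, 3, 1, 7, 9, 3, 1, 3, 1, 7, 3, 1, 3, 1, 7, 3, 1, 3, 1, 7, 3, 1, 3, 1, 7, 3, 1, 3, 1, 7, 9, 3, 1, 3, 1, 7, 3, 1, 3, 1, 7, 3, 1, 3, 1, 7, 3, 1, 3, 1, 7, 3, 1, 3, 1, 7, 6, 6, 6, 6, 6, 6, 6, 6, 6, 6, 0, 0, 0, 0, 0, 0, 0, 0, 0, 0, 0, 0, 0, 0, 0, 0, 0, 0, 0, 0, 0, 0, 0, 0, 0, 0, 0, 0, 0, 0, 0, 0, 0, 0, 2, 2, 2, 2, 2, 2, 2, 2, 2, 2, 2, 2, 2, 2, 2, 2, 2, 2, 2, 2, 2, 2, 2, 2, 2, 2, 2, 2, 2, 2, 2, 2, 2, 2,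 8, 8, 4, 6, 4, 6, 4, 6, 4, 6, 4, 6, 5, 5, 5, 5, 3, 1, 3, 1, 3, 1, 3, 1, 5, 16]]
  RB := 186
  tpl := fldA fA 120 136 87112285931760246646623899502532662132735 0 15
  tdep := fldA fA 120 136 87112285931760246646623899502532662132735 4 31
  ol := fldA fA 120 136 87112285931760246646623899502532662132735 9 3
  oc := fldA fA 120 136 87112285931760246646623899502532662132735 11 7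
  op := fldA fA 120 136 87112285931760246646623899502532662132735 14 511
  odep := fldA fA 120 136 87112285931760246646623899502532662132735 23 31
  orep := fun c => Tabs.nth 0 [0, 1, 51] c

end Cfsg.Agent.Lib.Helper28.G2Mult.L0
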